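import Cfsg.Agent.H540.L34.Mat2
import Cfsg.Agent.H201.L34.Sq

/-!
# S5917, END of type A (helper540): the unitary matrices `C + ω D`
-/

set_option autoImplicit false
set_option maxRecDepth 100000

namespace Cfsg.Agent.H540.L34

open Matrix
open Cfsg.Agent.H939.L64 (KK)
open Cfsg.Agent.H876.L64 (two_zero)

/-- the matrix over the field `KK` -/
noncomputable def uM (A : M2) : Matrix (Fin 3) (Fin 3) KK := A.map (algebraMap (ZMod 2) KK)

theorem uM_add (A B : M2) : uM (A + B) = uM A + uM B := by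
  unfold uM
  rw [Matrix.map_add _ (map_add _)]

theorem uM_mul (A B : M2) : uM (A * B) = uM A * uM B := by
  unfold uM
  rw [Matrix.map_mul]

theorem uM_one : uM 1 = 1 := by
  unfold uM
  rw [Matrix.map_one _ (map_zero _) (map_one _)]

theorem uM_T {A : M2} (h : Aᵀ = A) : (uM A)ᵀ = uM A := by
  unfold uM
  rw [← Matrix.transpose_map, h]

theorem om_rel {ω : KK} (hω : IsPrimitiveRoot ω 3) : ω ^ 2 = ω + 1 ∧ ω ^ 3 = 1 ∧ ω ≠ 0 ∧ ω ≠ 1 := by
  have h3 := hω.pow_eq_one
  have h1 : ω ≠ 1 := hω.ne_one (by norm_num)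
  have h0 : ω ≠ 0 := hω.ne_zero (by norm_num)
  have h2 : (ω - 1) * (ω ^ 2 + ω + 1) = 0 := by
    linear_combination h3
  have h4 := (mul_eq_zero.1 h2).resolve_left (sub_ne_zero.2 h1)
  refine ⟨?_, h3, h0, h1⟩
  linear_combination h4 - (ω + 1) * two_zero

theorem om_inj {ω : KK} (hω : IsPrimitiveRoot ω 3) {a b c d : ZMod 2}
    (h : algebraMap (ZMod 2) KK a + ω * algebraMap (ZMod 2) KK b = algebraMap (ZMod 2) KK c + ω * algebraMap (ZMod 2) KK d) :
    a = c ∧ b = d := by
  obtain ⟨h2, h3, h0, h1⟩ := om_rel hω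
  have k : ∀ a b : ZMod 2, algebraMap (ZMod 2) KK a + ω * algebraMap (ZMod 2) KK b = 0 → a = 0 ∧ b = 0 := by
    intro a b hab
    fin_cases a <;> fin_cases b
    · exact ⟨rfl, rfl⟩
    · exfalso
      change algebraMap (ZMod 2) KK 0 + ω * algebraMap (ZMod 2) KK 1 = 0 at hab
      rw [map_zero, map_one, zero_add, mul_one] at hab
      exact h0 hab
    · exfalso
      change algebraMap (ZMod 2) KK 1 + ω * algebraMap (ZMod 2) KK 0 = 0 at hab
      rw [map_zero, map_one, mul_zero, add_zero] at hab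
      exact one_ne_zero hab
    · exfalso
      change algebraMap (ZMod 2) KK 1 + ω * algebraMap (ZMod 2) KK 1 = 0 at hab
      rw [map_one, mul_one] at hab
      apply h1
      linear_combination hab - two_zero
  have h5 := k (a - c) (b - d) (by
    rw [map_sub, map_sub]
    linear_combination h)
  exact ⟨sub_eq_zero.1 h5.1, sub_eq_zero.1 h5.2⟩

theorem ns {ω : KK} (hω : IsPrimitiveRoot ω 3) {C D : M2} (h : NS C D) (c : KK) : uM C + ω • uM D ≠ c • 1 := by
  intro hc
  apply h
  have key : ∀ i j, i ≠ j → C i j = 0 ∧ D i j = 0 := by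
    intro i j hij
    have h1 := congrFun (congrFun hc i) j
    simp only [Matrix.add_apply, Matrix.smul_apply, Matrix.one_apply_ne hij, smul_eq_mul, mul_zero, uM, Matrix.map_apply] at h1
    refine om_inj hω (h1.trans ?_)
    rw [map_zero, mul_zero, add_zero]
  have key2 : ∀ i j, C i i = C j j ∧ D i i = D j j := by
    intro i j
    have h1 := congrFun (congrFun hc i) i
    have h2 := congrFun (congrFun hc j) j
    simp only [Matrix.add_apply, Matrix.smul_apply, Matrix.one_apply_eq, smul_eq_mul, mul_one, uM, Matrix.map_apply] at h1 h2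
    exact om_inj hω (h1.trans h2.symm)
  constructor
  · ext i j
    rw [Matrix.smul_apply]
    by_cases hij : i = j
    · subst hij
      rw [Matrix.one_apply_eq, smul_eq_mul, mul_one]
      exact (key2 _ _).1
    · rw [Matrix.one_apply_ne hij, smul_zero]
      exact (key i j hij).1
  · ext i j
    rw [Matrix.smul_apply]
    by_cases hij : i = j
    · subst hij
      rw [Matrix.one_apply_eq, smul_eq_mul, mul_one]
      exact (key2 _ _).2
    · rw [Matrix.one_apply_ne hij, smul_zero]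
      exact (key i j hij).2

theorem sq_F2 : ∀ a : ZMod 2, a ^ 2 = a := by decide

theorem frob_uM {ω : KK} {C D : M2} (hC : Cᵀ = C) (hD : Dᵀ = D) :
    ((uM C + ω • uM D).map fun a => a ^ 2)ᵀ = uM C + ω ^ 2 • uM D := by
  have h1 : ((uM C + ω • uM D).map fun a => a ^ 2) = uM C + ω ^ 2 • uM D := by
    ext i j
    simp only [Matrix.map_apply, Matrix.add_apply, Matrix.smul_apply, smul_eq_mul, uM]
    have e : ∀ a : ZMod 2, algebraMap (ZMod 2) KK a ^ 2 = algebraMap (ZMod 2) KK a := fun a => by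
      rw [← map_pow, sq_F2]
    have e1 := e (C i j)
    have e2 := e (D i j)
    linear_combination e1 + ω ^ 2 * e2 + algebraMap (ZMod 2) KK (C i j) * ω * algebraMap (ZMod 2) KK (D i j) * two_zero
  rw [h1, Matrix.transpose_add, Matrix.transpose_smul, uM_T hC, uM_T hD]

theorem Gd.un {ω : KK} (hω : IsPrimitiveRoot ω 3) {C D : M2} (h : Gd C D) :
    (uM C + ω • uM D) * ((uM C + ω • uM D).map fun a => a ^ 2)ᵀ = 1 := by
  obtain ⟨hC, hD, hc, h1, -, -⟩ := h
  obtain ⟨w2, w3, -, -⟩ := om_rel hω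
  rw [frob_uM hC hD]
  have e1 : uM C * uM D = uM D * uM C := by rw [← uM_mul, ← uM_mul, hc]
  have e2 : uM C * uM C + uM C * uM D + uM D * uM D = 1 := by
    rw [← uM_mul, ← uM_mul, ← uM_mul, ← uM_add, ← uM_add, h1, uM_one]
  have e3 : (uM C + ω • uM D) * (uM C + ω ^ 2 • uM D) =
      uM C * uM C + (ω ^ 2 + ω) • (uM C * uM D) + ω ^ 3 • (uM D * uM D) := by
    rw [add_mul, mul_add, mul_add, smul_mul_assoc, smul_mul_assoc, mul_smul_comm, mul_smul_comm, smul_smul, ← e1]
    module
  have e4 : ω ^ 2 + ω = 1 := by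
    rw [w2]
    linear_combination ω * two_zero
  rw [e3, e4, w3, one_smul, one_smul, e2]

theorem Gd.n1 {ω : KK} (hω : IsPrimitiveRoot ω 3) {C D : M2} (h : Gd C D) (c : KK) : uM C + ω • uM D ≠ c • 1 :=
  ns hω h.2.2.2.2.1 c

theorem Gd.n2 {ω : KK} (hω : IsPrimitiveRoot ω 3) {C D : M2} (h : Gd C D) (c : KK) :
    (uM C + ω • uM D) * (uM C + ω • uM D) ≠ c • 1 := by
  obtain ⟨hC, hD, hc, h1, -, h3⟩ := h
  obtain ⟨w2, w3, -, -⟩ := om_rel hω
  have e1 : uM C * uM D = uM D * uM C := by rw [← uM_mul, ← uM_mul, hc]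
  have e3 : (uM C + ω • uM D) * (uM C + ω • uM D) = uM (C * C + D * D) + ω • uM (D * D) := by
    rw [add_mul, mul_add, mul_add, smul_mul_assoc, smul_mul_assoc, mul_smul_comm, mul_smul_comm, smul_smul, ← e1,
      uM_add, uM_mul, uM_mul]
    have e5 : ω • (uM C * uM D) + ω • (uM C * uM D) = 0 := by
      rw [← add_smul]
      have : ω + ω = 0 := by linear_combination ω * two_zero
      rw [this, zero_smul]
    have e6 : ω * ω = 1 + ω := by
      rw [← pow_two, w2, add_comm]
    rw [e6, add_smul, one_smul]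
    calc uM C * uM C + ω • (uM C * uM D) + (ω • (uM C * uM D) + (uM D * uM D + ω • (uM D * uM D)))
        = uM C * uM C + uM D * uM D + ω • (uM D * uM D) + (ω • (uM C * uM D) + ω • (uM C * uM D)) := by abel
      _ = _ := by rw [e5, add_zero]
  rw [e3]
  exact ns hω h3 c

theorem comm_uM {ω : KK} {C D A : M2} (h1 : C * A = A * C) (h2 : D * A = A * D) :
    (uM C + ω • uM D) * uM A = uM A * (uM C + ω • uM D) := by
  rw [add_mul, mul_add, smul_mul_assoc, mul_smul_comm, ← uM_mul, ← uM_mul, ← uM_mul, ← uM_mul, h1, h2]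

end Cfsg.Agent.H540.L34
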