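import Cfsg.Agent.H540.L34.End0
import Cfsg.Agent.H540.L34.Card9
import Cfsg.Agent.H939.L34.Frm

/-!
# S5917, END of type A (helper540)

`endA` : in type A the socle fixes no non-zero vector.
-/

set_option autoImplicit false
set_option linter.unusedSectionVars false
set_option maxRecDepth 100000

namespace Cfsg.Agent.H540.L34

open Cfsg Cfsg.Lie Cfsg.Lie.ChevalleyDatum Matrix
open Cfsg.Agent.H691.L34 (G3)
open Cfsg.Agent.H939.L64
open Cfsg.Agent.H437.L34 (fg)
open Cfsg.Agent.H888.L34.Model (Sit P3 fix2 fix2_stable mem_of_fix2_set ncard_le mem_fix2)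
open Cfsg.Agent.H939.L34 (UQ Fsit FsitA)

variable {F : Type} [Field F] {H : Subgroup E2} {f : P3 F →* E2} {z : ↥(chevE8.group KK)} {ζ : KK} {g1 g2 qi qj : G3 F}

theorem fix2_fg {v : L2} (hv : v ∈ fix2 f) (g : G3 F) : a2 (fg f g) v = v := by
  rw [Cfsg.Agent.H437.L34.fg_apply]
  exact mem_fix2.1 hv _

theorem fix2_sq {v w : L2} (hv : v ∈ fix2 f) (hw : up w = H201.L34.sq (up v)) : w ∈ fix2 f := by
  rw [mem_fix2]
  intro s
  apply up_inj
  rw [← H436.L34.aK_em_up, hw, H201.L34.aK_sq, H436.L34.aK_em_up, mem_fix2.1 hv s]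

/-- the Sylow subgroup `⟨g1, g2⟩` of the socle -/
theorem card_E (U : UQ g1 g2 qi qj) (hf : Function.Injective f) :
    Nat.card ↥(Subgroup.zpowers (QuotientGroup.mk' (Subgroup.center (G3 F)) g1 : P3 F) ⊔
      Subgroup.zpowers (QuotientGroup.mk' (Subgroup.center (G3 F)) g2 : P3 F)) = 9 := by
  obtain ⟨-, -, -, -, -, -, -, r1, r2, r3⟩ := U.rel f
  obtain ⟨r4, r5⟩ := U.indep hf
  simp only [Cfsg.Agent.H437.L34.fg_apply] at r1 r2 r3 r4 r5
  refine card_nine (hf ?_) (hf ?_) ?_ ?_ ?_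
  · rw [map_pow, r1, map_one]
  · rw [map_pow, r2, map_one]
  · apply hf
    rw [map_mul, map_mul]
    exact r3
  · intro h
    apply r4
    rw [h, map_one]
  · intro i h
    apply r5 i
    rw [h, map_pow]

/-- **the end of type A** -/
theorem endA (Ft : FsitA H f z ζ g1 g2 qi qj) (h0 : fix2 f ≠ ⊥) : False := by
  have S := Ft.sit
  obtain ⟨v0, hv0, hv0'⟩ := (Submodule.ne_bot_iff _).1 h0
  obtain ⟨X, hX, hXc, M, hM0, hMst, hMX⟩ := endA0 (W := (fix2 f : Set L2)) Ft.prim rfl rfl Ft.zi Ft.zj Ft.m1 Ft.m2 Ft.v1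
    Ft.v2 Ft.zm (fun v hv w hw => Submodule.add_mem _ hv hw) (fun v hv w hw => fix2_sq hv hw) ⟨v0, hv0, hv0'⟩
    (fun v hv => ⟨fix2_fg hv g1, fix2_fg hv g2, fix2_fg hv qi, fix2_fg hv qj⟩)
  have hXH : ∀ g ∈ X, g ∈ H := fun g hg =>
    mem_of_fix2_set S hM0 (fun h hh v hv => hMst h (fun w hw => fix2_stable S hh hw) v hv) fun v hv => hMX g hg v hv
  have hle := ncard_le S (card_E Ft.uq S.inj) hXH (by
    intro g hg s hs
    have h1 : Subgroup.zpowers (QuotientGroup.mk' (Subgroup.center (G3 F)) g1 : P3 F) ⊔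
        Subgroup.zpowers (QuotientGroup.mk' (Subgroup.center (G3 F)) g2 : P3 F) ≤
        (Subgroup.centralizer {g}).comap f := by
      rw [sup_le_iff, Subgroup.zpowers_le, Subgroup.zpowers_le, Subgroup.mem_comap, Subgroup.mem_comap,
        Subgroup.mem_centralizer_singleton_iff, Subgroup.mem_centralizer_singleton_iff]
      exact ⟨(hXc g hg).1.eq.symm, (hXc g hg).2.eq.symm⟩
    have h2 := h1 hs
    rw [Subgroup.mem_comap, Subgroup.mem_centralizer_singleton_iff] at h2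
    exact h2.symm)
  omega

end Cfsg.Agent.H540.L34
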